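import Cfsg.Agent.H875.SpBase
import Cfsg.Agent.ClassicalGeometry.SympIso
set_option linter.all false

/-!
Non-degenerate decompositions of the symplectic space: projections, the elements exchanging two
blocks, and the proof that an overgroup of the stabiliser with a full vector having two non-zero
components is the whole group.
-/

set_option autoImplicit false
open Cfsg
open scoped Matrix
open Cfsg.Agent.ClassicalGeometry.SympBasic Cfsg.Agent.ClassicalGeometry.SympSiegel

namespace Cfsg.Agent.H875

/-! ### Projections of a decomposition -/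

section proj

variable {F : Type*} [Field F] {W : Type*} [AddCommGroup W] [Module F W] {t : ℕ}

/-- `P` is the family of projections of the direct sum decomposition `D`. -/
structure IsProj (D : Fin t → Submodule F W) (P : Fin t → (W →ₗ[F] W)) : Prop where
  mem : ∀ i v, P i v ∈ D i
  sum : ∀ v, ∑ i, P i v = v
  same : ∀ i, ∀ v ∈ D i, P i v = v
  ne : ∀ i j, i ≠ j → ∀ v ∈ D j, P i v = 0

theorem exists_isProj {D : Fin t → Submodule F W} (h1 : iSupIndep D) (h2 : iSup D = ⊤) :
    ∃ P, IsProj D P := by
  classical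
  have hint := DirectSum.isInternal_submodule_of_iSupIndep_of_iSup_eq_top h1 h2
  let _ : DirectSum.Decomposition D := hint.chooseDecomposition
  refine ⟨fun i => (D i).subtype ∘ₗ (DirectSum.component F (Fin t) (fun i => D i) i) ∘ₗ
    (DirectSum.decomposeLinearEquiv D).toLinearMap, ?_, ?_, ?_, ?_⟩
  · intro i v
    exact Subtype.mem _
  · intro v
    have := DirectSum.sum_support_decompose D v
    conv_rhs => rw [← this]
    symm
    apply Finset.sum_subset (Finset.subset_univ _)
    intro i _ hi
    have : (DirectSum.decompose D v) i = 0 := by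
      simpa using hi
    rw [this]
    rfl
  · intro i v hv
    exact DirectSum.decompose_of_mem_same D hv
  · intro i j hij v hv
    exact DirectSum.decompose_of_mem_ne D hv (Ne.symm hij)

end proj

variable {F : Type*} [Field F] {m : ℕ}

local notation "V" => (Fin m ⊕ Fin m → F)
local notation "G" => Matrix.symplecticGroup (Fin m) F
local notation "f" => sympForm m F

theorem form_sum_left {ι : Type*} (s : Finset ι) (u : ι → V) (v : V) :
    f (∑ i ∈ s, u i) v = ∑ i ∈ s, f (u i) v :=
  map_sum ((sympBilin m F).flip v) u s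

theorem form_sum_right {ι : Type*} (s : Finset ι) (u : ι → V) (v : V) :
    f v (∑ i ∈ s, u i) = ∑ i ∈ s, f v (u i) :=
  map_sum (sympBilin m F v) u s

/-! ### The key closure lemmas -/

/-- Choose a vector of a non-degenerate subspace non-orthogonal to two given ones. -/
theorem exists_both {W : Submodule F V} (hW : Cfsg.Geo.IsNondegenerateOn f W) {x y : V}
    (hx : x ∈ W) (hx0 : x ≠ 0) (hy : y ∈ W) (hy0 : y ≠ 0) :
    ∃ z ∈ W, f x z ≠ 0 ∧ f z y ≠ 0 := by
  obtain ⟨-, a, haW, ha⟩ := hW x hx hx0
  obtain ⟨⟨b, hbW, hb⟩, -⟩ := hW y hy hy0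
  by_cases ha' : f a y = 0
  · by_cases hb' : f x b = 0
    · refine ⟨a + b, W.add_mem haW hbW, ?_, ?_⟩
      · rwa [sympForm_add_right, hb', add_zero]
      · rwa [sympForm_add_left, ha', zero_add]
    · exact ⟨b, hbW, hb', hb⟩
  · exact ⟨a, haW, ha, ha'⟩

theorem lemA {M : Subgroup G} {W : Submodule F V} (hW : Cfsg.Geo.IsNondegenerateOn f W)
    (hM : ∀ w ∈ W, Full M w) {u₀ u₁ : V} (h0 : u₀ ∈ W) (h0' : u₀ ≠ 0)
    (h1 : ∀ w ∈ W, f w u₁ = 0) (hu : Full M (u₀ + u₁)) :
    ∀ w ∈ W, w ≠ 0 → Full M (w + u₁) := by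
  have step : ∀ a ∈ W, Full M (a + u₁) → ∀ w ∈ W, f a w ≠ 0 → Full M (w + u₁) := by
    intro a ha hau w hw haw
    have h2 : Full M ((a + u₁) + (w - a)) := by
      apply hau.add (hM _ (W.sub_mem hw ha))
      rw [sympForm_add_left, sympForm_sub_right, sympForm_self, sub_zero, sympForm_swap u₁,
        h1 _ (W.sub_mem hw ha), neg_zero, add_zero]
      exact haw
    convert h2 using 1
    abel
  intro w hw hw0
  obtain ⟨z, hz, h3, h4⟩ := exists_both hW h0 h0' hw hw0
  exact step z hz (step u₀ h0 hu z hz h3) w hw h4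

/-- The exceptional behaviour is excluded: either there is a scalar different from `0, -1`, or the
characteristic is two and `W` has dimension at least three. -/
def Big (W : Submodule F V) : Prop :=
  (∃ s : F, s ≠ 0 ∧ s ≠ -1) ∨
    ((2 : F) = 0 ∧ ∃ w ∈ W, ∃ w' ∈ W, w ≠ 0 ∧ w' ≠ 0 ∧ w + w' ≠ 0 ∧ f w w' = 0)

theorem lemB {M : Subgroup G} {W : Submodule F V} {u₁ v : V} (hbig : Big W)
    (h1 : ∀ w ∈ W, f w u₁ = 0) (hv1 : ∀ w ∈ W, f w v = 0) (hv : Full M v) (huv : f u₁ v ≠ 0)
    (h : ∀ w ∈ W, w ≠ 0 → Full M (w + u₁)) (hne : ∃ w ∈ W, w ≠ 0) : Full M u₁ := by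
  have h2 : ∀ w ∈ W, w ≠ 0 → ∀ b : F, Full M ((w + u₁) + b • v) := by
    intro w hw hw0 b
    apply (h w hw hw0).add_smul hv
    rw [sympForm_add_left, hv1 w hw, zero_add]
    exact huv
  have hvu : f v u₁ ≠ 0 := by rw [sympForm_swap]; exact neg_ne_zero.2 huv
  rcases hbig with ⟨s, hs0, hs1⟩ | ⟨h20, w, hw, w', hw', hw0, hw0', hww, hf⟩
  · obtain ⟨w, hw, hw0⟩ := hne
    have hs1' : (1 + s : F) ≠ 0 := fun hh => hs1 (by linear_combination hh)
    have h3 := h2 (-(s⁻¹) • w) (W.smul_mem _ hw)
      (smul_ne_zero (neg_ne_zero.2 (inv_ne_zero hs0)) hw0) 1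
    have h4 : Full M ((w + u₁) + s • (-(s⁻¹) • w + u₁ + (1 : F) • v)) := by
      apply (h w hw hw0).add_smul h3
      simp only [sympForm_add_left, sympForm_add_right, sympForm_smul_right, sympForm_self,
        h1 w hw, hv1 w hw, sympForm_swap u₁ w, mul_zero, zero_add, add_zero, neg_zero, one_mul]
      exact huv
    have h5 : (w + u₁) + s • (-(s⁻¹) • w + u₁ + (1 : F) • v) = (1 + s) • u₁ + s • v := by
      have : s • (-(s⁻¹) • w) = -w := by
        rw [smul_smul, mul_neg, mul_inv_cancel₀ hs0, neg_one_smul]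
      rw [smul_add, smul_add, this]
      module
    rw [h5] at h4
    have h6 : Full M (((1 + s) • u₁ + s • v) - s • v) := by
      apply h4.sub (hv.smul_vec s)
      simp only [sympForm_add_left, sympForm_smul_left, sympForm_smul_right, sympForm_self,
        mul_zero, add_zero]
      exact mul_ne_zero hs0 (mul_ne_zero hs1' huv)
    rw [add_sub_cancel_right, full_smul_iff hs1'] at h6
    exact h6
  · have hdouble : ∀ x : V, x + x = 0 := by
      intro x
      rw [← two_smul F, h20, zero_smul]
    have hfw : f w' w = 0 := by rw [sympForm_swap, hf, neg_zero]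
    -- `v + w'` is full
    have h3 := h2 (w + w') (W.add_mem hw hw') hww 1
    have h4 : Full M ((w + u₁) + (w + w' + u₁ + (1 : F) • v)) := by
      apply (h w hw hw0).add h3
      simp only [sympForm_add_left, sympForm_add_right, sympForm_smul_right, sympForm_self,
        h1 w hw, hv1 w hw, sympForm_swap u₁ w, sympForm_swap u₁ w', h1 w' hw', hf,
        zero_add, add_zero, neg_zero, one_mul]
      exact huv
    have h5 : (w + u₁) + (w + w' + u₁ + (1 : F) • v) = w' + v := by
      rw [one_smul]
      have e : (w + u₁) + (w + w' + u₁ + v) = (w + w) + (u₁ + u₁) + (w' + v) := by abel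
      rw [e, hdouble, hdouble, zero_add, zero_add]
    rw [h5] at h4
    -- `u₁ + v` is full
    have h6 : Full M ((w' + u₁) + (w' + v)) := by
      apply (h w' hw' hw0').add h4
      simp only [sympForm_add_left, sympForm_add_right, sympForm_self,
        hv1 w' hw', sympForm_swap u₁ w', h1 w' hw',
        zero_add, add_zero, neg_zero]
      exact huv
    have h7 : (w' + u₁) + (w' + v) = u₁ + v := by
      have e : (w' + u₁) + (w' + v) = (w' + w') + (u₁ + v) := by abel
      rw [e, hdouble, zero_add]
    rw [h7] at h6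
    have h8 : Full M ((u₁ + v) - v) := by
      apply h6.sub hv
      rw [sympForm_add_left, sympForm_self, add_zero]
      exact huv
    rwa [add_sub_cancel_right] at h8

/-! ### The decomposition stabiliser -/

variable {t k : ℕ} {D : Fin t → Submodule F (Fin m ⊕ Fin m → F)}

/-- A symplectic map carrying blocks into blocks by a permutation lies in the stabiliser. -/
theorem mem_decompositionStabilizer_of (hD : Cfsg.Geo.IsMDecomposition k D) {g : G}
    (σ : Equiv.Perm (Fin t)) (h : ∀ i, ∀ x ∈ D i, g • x ∈ D (σ i)) :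
    toGL m F g ∈ Cfsg.Geo.decompositionStabilizer D := by
  refine ⟨σ, fun i => ?_⟩
  have hinj : Function.Injective (Matrix.toLin' ((toGL m F g : GL (Fin m ⊕ Fin m) F) :
      Matrix (Fin m ⊕ Fin m) (Fin m ⊕ Fin m) F)) := by
    intro x y hxy
    have h1 : g • x = g • y := hxy
    exact smul_left_cancel g h1
  apply Submodule.eq_of_le_of_finrank_eq
  · rintro _ ⟨x, hx, rfl⟩
    exact h i x hx
  · rw [hD.finrank_eq (σ i), ← hD.finrank_eq i]
    exact (Submodule.equivMapOfInjective _ hinj (D i)).finrank_eq.symm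

theorem smul_mem_of_mem_decompositionStabilizer {g : G}
    (hg : toGL m F g ∈ Cfsg.Geo.decompositionStabilizer D) :
    ∃ σ : Equiv.Perm (Fin t), ∀ i, ∀ x ∈ D i, g • x ∈ D (σ i) := by
  obtain ⟨σ, hσ⟩ := hg
  refine ⟨σ, fun i x hx => ?_⟩
  rw [← hσ i]
  exact ⟨x, hx, rfl⟩

theorem transv_mem_dec (hD : Cfsg.Geo.IsNondegenerateMDecomposition f k D) (i : Fin t) {v : V}
    (hv : v ∈ D i) (c : F) :
    toGL m F (transv v c) ∈ Cfsg.Geo.decompositionStabilizer D := by
  apply mem_decompositionStabilizer_of hD.decomp 1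
  intro j x hx
  rw [transv_smul]
  by_cases hij : j = i
  · subst hij
    exact (D j).add_mem hx ((D j).smul_mem _ hv)
  · rw [hD.orthogonal j i hij x hx v hv, mul_zero, zero_smul, add_zero]
    exact hx

variable {P : Fin t → ((Fin m ⊕ Fin m → F) →ₗ[F] (Fin m ⊕ Fin m → F))}

theorem form_proj (hD : Cfsg.Geo.IsNondegenerateMDecomposition f k D) (hP : IsProj D P)
    (i : Fin t) (v : V) {y : V} (hy : y ∈ D i) : f (P i v) y = f v y := by
  conv_rhs => rw [← hP.sum v, form_sum_left]
  rw [Finset.sum_eq_single i]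
  · intro j _ hj
    exact hD.orthogonal j i hj _ (hP.mem j v) y hy
  · intro h; exact absurd (Finset.mem_univ i) h

theorem form_proj_right (hD : Cfsg.Geo.IsNondegenerateMDecomposition f k D) (hP : IsProj D P)
    (i : Fin t) (v : V) {y : V} (hy : y ∈ D i) : f y (P i v) = f y v := by
  rw [sympForm_swap, form_proj hD hP i v hy, ← sympForm_swap]

/-- The element exchanging two blocks. -/
theorem exists_swap (hD : Cfsg.Geo.IsNondegenerateMDecomposition f k D) (hP : IsProj D P)
    {i j : Fin t} (hij : i ≠ j) :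
    ∃ g : G, toGL m F g ∈ Cfsg.Geo.decompositionStabilizer D ∧
      (∀ x ∈ D i, g • x ∈ D j) ∧ (∀ x ∈ D j, g • x ∈ D i) ∧
      (∀ y ∈ D j, ∃ x ∈ D i, g • x = y) ∧
      (∀ l, l ≠ i → l ≠ j → ∀ x ∈ D l, g • x = x) := by
  classical
  -- the isometry of the two blocks
  obtain ⟨φ, hφ⟩ : ∃ φ : D i ≃ₗ[F] D j, ∀ x y : D i, f (φ x : V) (φ y : V) = f (x : V) (y : V) := by
    have hform : ∀ l : Fin t, ∃ B : LinearMap.BilinForm F (D l), B.IsAlt ∧
        (∀ u, (∀ v, B u v = 0) → u = 0) ∧ ∀ u v : D l, B u v = f (u : V) (v : V) := by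
      intro l
      refine ⟨(sympBilin m F).compl₁₂ (D l).subtype (D l).subtype, ?_, ?_, ?_⟩
      · intro x
        exact sympForm_self _
      · intro u hu
        by_contra hne
        have h0 : (u : V) ≠ 0 := fun h => hne (Subtype.ext h)
        obtain ⟨-, x, hx, hux⟩ := hD.nondegenerate l u u.2 h0
        exact hux (hu ⟨x, hx⟩)
      · intro u v
        rfl
    obtain ⟨Bi, hAi, hNi, hBi⟩ := hform i
    obtain ⟨Bj, hAj, hNj, hBj⟩ := hform j
    -- the dimension is even
    obtain ⟨k', l', b, hb1, hb2, hb3, hb4⟩ := Cfsg.Agent.S0752.result Bi hAi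
    have hl : l' = 0 := by
      by_contra hl
      have := hNi _ (hb4 ⟨0, Nat.pos_of_ne_zero hl⟩)
      exact b.ne_zero _ this
    subst hl
    have hki : Module.finrank F (D i) = 2 * k' := by
      have := Module.finrank_eq_card_basis b
      simp at this
      omega
    have hkj : Module.finrank F (D j) = 2 * k' := by
      rw [hD.decomp.finrank_eq j, ← hD.decomp.finrank_eq i, hki]
    obtain ⟨ei, hei⟩ := Cfsg.Agent.ClassicalGeometry.SympIso.exists_linearEquiv_sympForm Bi hAi
      hNi hki
    obtain ⟨ej, hej⟩ := Cfsg.Agent.ClassicalGeometry.SympIso.exists_linearEquiv_sympForm Bj hAj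
      hNj hkj
    refine ⟨ei.symm.trans ej, fun x y => ?_⟩
    rw [← hBj, ← hBi]
    simp only [LinearEquiv.trans_apply]
    rw [hej, ← hei, LinearEquiv.apply_symm_apply, LinearEquiv.apply_symm_apply]
  have hφs : ∀ x y : D j, f (φ.symm x : V) (φ.symm y : V) = f (x : V) (y : V) := by
    intro x y
    rw [← hφ, LinearEquiv.apply_symm_apply, LinearEquiv.apply_symm_apply]
  -- the map
  let Pi : V →ₗ[F] D i := (P i).codRestrict (D i) (hP.mem i)
  let Pj : V →ₗ[F] D j := (P j).codRestrict (D j) (hP.mem j)
  let T : V →ₗ[F] V := LinearMap.id - P i - P j + (D j).subtype ∘ₗ φ.toLinearMap ∘ₗ Pi +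
    (D i).subtype ∘ₗ φ.symm.toLinearMap ∘ₗ Pj
  have hT : ∀ v, T v = (v - P i v - P j v) + (φ ⟨P i v, hP.mem i v⟩ : V) +
      (φ.symm ⟨P j v, hP.mem j v⟩ : V) := fun v => rfl
  have hR : ∀ v, ∀ y ∈ D i, f (v - P i v - P j v) y = 0 := by
    intro v y hy
    rw [sympForm_sub_left, sympForm_sub_left, form_proj hD hP i v hy, sub_self, zero_sub,
      hD.orthogonal j i (Ne.symm hij) _ (hP.mem j v) y hy, neg_zero]
  have hR' : ∀ v, ∀ y ∈ D j, f (v - P i v - P j v) y = 0 := by
    intro v y hy
    rw [sympForm_sub_left, sympForm_sub_left, form_proj hD hP j v hy,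
      hD.orthogonal i j hij _ (hP.mem i v) y hy, sub_zero, sub_self]
  have hRs : ∀ v, ∀ y ∈ D i, f y (v - P i v - P j v) = 0 := fun v y hy => by
    rw [sympForm_swap, hR v y hy, neg_zero]
  have hRs' : ∀ v, ∀ y ∈ D j, f y (v - P i v - P j v) = 0 := fun v y hy => by
    rw [sympForm_swap, hR' v y hy, neg_zero]
  have hexp : ∀ (r r' a a' b b' : V), f (r + a + b) (r' + a' + b') =
      f r r' + f r a' + f r b' + f a r' + f a a' + f a b' + f b r' + f b a' + f b b' := by
    intro r r' a a' b b'
    simp only [sympForm_add_left, sympForm_add_right]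
    ring
  have hiso : ∀ u v, f (T u) (T v) = f u v := by
    intro u v
    rw [hT, hT, hexp]
    rw [hR' u _ (φ ⟨P i v, _⟩).2, hR u _ (φ.symm ⟨P j v, _⟩).2,
      hRs' v _ (φ ⟨P i u, _⟩).2, hRs v _ (φ.symm ⟨P j u, _⟩).2, hφ, hφs,
      hD.orthogonal j i (Ne.symm hij) _ (φ ⟨P i u, _⟩).2 _ (φ.symm ⟨P j v, _⟩).2,
      hD.orthogonal i j hij _ (φ.symm ⟨P j u, _⟩).2 _ (φ ⟨P i v, _⟩).2]
    have hu : u = (u - P i u - P j u) + P i u + P j u := by abel
    have hv : v = (v - P i v - P j v) + P i v + P j v := by abel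
    conv_rhs => rw [hu, hv, hexp]
    rw [hR u _ (hP.mem i v), hR' u _ (hP.mem j v), hRs v _ (hP.mem i u), hRs' v _ (hP.mem j u),
      hD.orthogonal i j hij _ (hP.mem i u) _ (hP.mem j v),
      hD.orthogonal j i (Ne.symm hij) _ (hP.mem j u) _ (hP.mem i v)]
  have hTi : ∀ x (hx : x ∈ D i), T x = φ ⟨x, hx⟩ := by
    intro x hx
    rw [hT]
    have h1 : P i x = x := hP.same i x hx
    have h2 : P j x = 0 := hP.ne j i (Ne.symm hij) x hx
    have h3 : (⟨P j x, hP.mem j x⟩ : D j) = 0 := Subtype.ext h2
    have h4 : (⟨P i x, hP.mem i x⟩ : D i) = ⟨x, hx⟩ := Subtype.ext h1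
    rw [h3, h4, map_zero, h1, h2]
    simp
  have hTj : ∀ x (hx : x ∈ D j), T x = φ.symm ⟨x, hx⟩ := by
    intro x hx
    rw [hT]
    have h1 : P j x = x := hP.same j x hx
    have h2 : P i x = 0 := hP.ne i j hij x hx
    have h3 : (⟨P i x, hP.mem i x⟩ : D i) = 0 := Subtype.ext h2
    have h4 : (⟨P j x, hP.mem j x⟩ : D j) = ⟨x, hx⟩ := Subtype.ext h1
    rw [h3, h4, map_zero, h1, h2]
    simp
  have hTl : ∀ l, l ≠ i → l ≠ j → ∀ x ∈ D l, T x = x := by
    intro l hli hlj x hx
    rw [hT]
    have h1 : P j x = 0 := hP.ne j l (Ne.symm hlj) x hx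
    have h2 : P i x = 0 := hP.ne i l (Ne.symm hli) x hx
    have h3 : (⟨P i x, hP.mem i x⟩ : D i) = 0 := Subtype.ext h2
    have h4 : (⟨P j x, hP.mem j x⟩ : D j) = 0 := Subtype.ext h1
    rw [h3, h4, map_zero, map_zero, h1, h2]
    simp
  refine ⟨ofIso T hiso, ?_, ?_, ?_, ?_, ?_⟩
  · apply mem_decompositionStabilizer_of hD.decomp (Equiv.swap i j)
    intro l x hx
    rw [ofIso_smul]
    by_cases hli : l = i
    · subst hli
      rw [Equiv.swap_apply_left, hTi x hx]
      exact Subtype.mem _
    · by_cases hlj : l = j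
      · subst hlj
        rw [Equiv.swap_apply_right, hTj x hx]
        exact Subtype.mem _
      · rw [Equiv.swap_apply_of_ne_of_ne hli hlj, hTl l hli hlj x hx]
        exact hx
  · intro x hx
    rw [ofIso_smul, hTi x hx]
    exact Subtype.mem _
  · intro x hx
    rw [ofIso_smul, hTj x hx]
    exact Subtype.mem _
  · intro y hy
    refine ⟨φ.symm ⟨y, hy⟩, Subtype.mem _, ?_⟩
    rw [ofIso_smul, hTi _ (Subtype.mem _)]
    simp
  · intro l hli hlj x hx
    rw [ofIso_smul, hTl l hli hlj x hx]

/-- An overgroup with a full vector having two non-zero components is everything. -/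
theorem eq_top_of_two_components (hD : Cfsg.Geo.IsNondegenerateMDecomposition f k D)
    (hP : IsProj D P) (hbig : ∀ i, Big (D i)) {M : Subgroup G}
    (hM : (Cfsg.Geo.decompositionStabilizer D).comap (toGL m F) ≤ M) {u : V} (hu : Full M u)
    {i j : Fin t} (hij : i ≠ j) (hi : P i u ≠ 0) (hj : P j u ≠ 0) : M = ⊤ := by
  classical
  have hMD : ∀ l, ∀ w ∈ D l, Full M w := by
    intro l w hw c
    exact hM (transv_mem_dec hD l hw c)
  have hne : ∀ l, ∃ w ∈ D l, w ≠ 0 := by
    intro l
    have h1 : D l ≠ ⊥ := by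
      intro h
      have h2 := hD.decomp.finrank_eq l
      rw [h, finrank_bot] at h2
      exact absurd h2.symm hD.decomp.pos.ne'
    obtain ⟨w, hw, hw0⟩ := Submodule.exists_mem_ne_zero_of_ne_bot h1
    exact ⟨w, hw, hw0⟩
  -- removing or changing one component
  have kill : ∀ (u : V), Full M u → ∀ i l : Fin t, i ≠ l → P i u ≠ 0 → P l u ≠ 0 →
      ∀ w ∈ D l, Full M (w + (u - P l u)) := by
    intro u hu i l hil hi hl w hw
    have horth : ∀ w ∈ D l, f w (u - P l u) = 0 := by
      intro w hw
      rw [sympForm_sub_right, form_proj_right hD hP l u hw, sub_self]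
    have hA := lemA (hD.nondegenerate l) (hMD l) (hP.mem l u) hl horth
      (by rw [add_sub_cancel]; exact hu)
    by_cases hw0 : w = 0
    · obtain ⟨-, v, hv, huv⟩ := hD.nondegenerate i _ (hP.mem i u) hi
      rw [form_proj hD hP i u hv] at huv
      have hvl : ∀ w ∈ D l, f w v = 0 := fun w hw => hD.orthogonal l i (Ne.symm hil) w hw v hv
      rw [hw0, zero_add]
      refine lemB (hbig l) horth hvl (hMD i v hv) ?_ hA (hne l)
      rw [sympForm_sub_left, hvl _ (hP.mem l u), sub_zero]
      exact huv
    · exact hA w hw hw0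
  -- reduce to two components
  have red : ∀ S : Finset (Fin t), i ∉ S → j ∉ S → Full M (u - ∑ l ∈ S, P l u) := by
    intro S
    induction S using Finset.induction_on with
    | empty =>
      intro _ _
      rw [Finset.sum_empty, sub_zero]
      exact hu
    | insert l S hl ih =>
      intro hiS hjS
      rw [Finset.mem_insert, not_or] at hiS hjS
      have h1 := ih hiS.2 hjS.2
      have hcomp : ∀ l' : Fin t, l' ∉ S → P l' (u - ∑ l ∈ S, P l u) = P l' u := by
        intro l' hl'
        rw [map_sub, map_sum]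
        rw [Finset.sum_eq_zero, sub_zero]
        intro a ha
        exact hP.ne l' a (fun h => hl' (h ▸ ha)) _ (hP.mem a u)
      rw [Finset.sum_insert hl]
      by_cases hl0 : P l u = 0
      · rw [hl0, zero_add]; exact h1
      · have h2 := kill _ h1 i l hiS.1 (by rw [hcomp i hiS.2]; exact hi)
          (by rw [hcomp l hl]; exact hl0) 0 (D l).zero_mem
        rw [hcomp l hl, zero_add] at h2
        convert h2 using 1
        abel
  have hcompl : u - ∑ l ∈ (Finset.univ.erase i).erase j, P l u = P i u + P j u := by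
    have e := hP.sum u
    rw [← Finset.add_sum_erase Finset.univ _ (Finset.mem_univ i),
      ← Finset.add_sum_erase (Finset.univ.erase i) _
        (Finset.mem_erase.2 ⟨Ne.symm hij, Finset.mem_univ j⟩)] at e
    rw [sub_eq_iff_eq_add]
    conv_lhs => rw [← e]
    abel
  have h2 : Full M (P i u + P j u) := by
    rw [← hcompl]
    exact red _ (by simp) (by simp)
  -- all of `D i + D j`
  have pair : ∀ w ∈ D i, ∀ w' ∈ D j, Full M (w + w') := by
    intro w hw w' hw'
    have e1 : P i (P i u + P j u) = P i u := by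
      rw [map_add, hP.same i _ (hP.mem i u), hP.ne i j hij _ (hP.mem j u), add_zero]
    have e2 : P j (P i u + P j u) = P j u := by
      rw [map_add, hP.same j _ (hP.mem j u), hP.ne j i (Ne.symm hij) _ (hP.mem i u), zero_add]
    by_cases hw0 : w = 0
    · rw [hw0, zero_add]; exact hMD j w' hw'
    · have h3 := kill _ h2 j i (Ne.symm hij) (by rw [e2]; exact hj) (by rw [e1]; exact hi) w hw
      rw [e1, add_sub_cancel_left] at h3
      have e3 : P i (w + P j u) = w := by
        rw [map_add, hP.same i _ hw, hP.ne i j hij _ (hP.mem j u), add_zero]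
      have e4 : P j (w + P j u) = P j u := by
        rw [map_add, hP.same j _ (hP.mem j u), hP.ne j i (Ne.symm hij) _ hw, zero_add]
      have h4 := kill _ h3 i j hij (by rw [e3]; exact hw0) (by rw [e4]; exact hj) w' hw'
      rw [e4, add_sub_cancel_right] at h4
      rw [add_comm]
      exact h4
  -- all of `D i + D l`
  have star : ∀ l, l ≠ i → ∀ w ∈ D i, ∀ w' ∈ D l, Full M (w + w') := by
    intro l hl w hw w' hw'
    by_cases hlj : l = j
    · subst hlj
      exact pair w hw w' hw'
    · obtain ⟨g, hg, -, -, hsurj, hfix⟩ := exists_swap hD hP (i := j) (j := l) (Ne.symm hlj)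
      obtain ⟨x, hx, hgx⟩ := hsurj w' hw'
      have h3 := (pair w hw x hx).smul (hM hg)
      rw [smul_add', hgx, hfix i hij (Ne.symm hl) w hw] at h3
      exact h3
  -- everything
  have all : ∀ S : Finset (Fin t), i ∉ S → ∀ (v : V), ∀ w ∈ D i,
      Full M (w + ∑ l ∈ S, P l v) := by
    intro S
    induction S using Finset.induction_on with
    | empty =>
      intro _ v w hw
      rw [Finset.sum_empty, add_zero]
      exact hMD i w hw
    | insert l S hl ih =>
      intro hiS v w hw
      rw [Finset.mem_insert, not_or] at hiS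
      have hi_sum : ∀ z ∈ D i, f (∑ l ∈ S, P l v) z = 0 := by
        intro z hz
        rw [form_sum_left]
        apply Finset.sum_eq_zero
        intro a ha
        exact hD.orthogonal a i (fun h => hiS.2 (h ▸ ha)) _ (hP.mem a v) z hz
      have hl_sum : ∀ z ∈ D l, f (∑ l ∈ S, P l v) z = 0 := by
        intro z hz
        rw [form_sum_left]
        apply Finset.sum_eq_zero
        intro a ha
        exact hD.orthogonal a l (fun h => hl (h ▸ ha)) _ (hP.mem a v) z hz
      have main : ∀ w ∈ D i, w ≠ 0 → Full M (w + ∑ l ∈ insert l S, P l v) := by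
        intro w hw hw0
        obtain ⟨-, z, hz, hwz⟩ := hD.nondegenerate i w hw hw0
        have h3 := ih hiS.2 v (w - z) ((D i).sub_mem hw hz)
        have h4 := star l (Ne.symm hiS.1) z hz (P l v) (hP.mem l v)
        have h5 : Full M ((w - z + ∑ l ∈ S, P l v) + (z + P l v)) := by
          apply h3.add h4
          rw [sympForm_add_left, sympForm_add_right, sympForm_add_right, hi_sum z hz,
            hl_sum _ (hP.mem l v), hD.orthogonal i l hiS.1 _ ((D i).sub_mem hw hz) _
              (hP.mem l v), sympForm_sub_left, sympForm_self]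
          simpa using hwz
        rw [Finset.sum_insert hl]
        convert h5 using 1
        abel
      by_cases hw0 : w = 0
      · rw [hw0, zero_add]
        by_cases hs : ∃ l' ∈ insert l S, P l' v ≠ 0
        · obtain ⟨l', hl', hl'0⟩ := hs
          obtain ⟨w₁, hw₁, hw₁0⟩ := hne i
          have h3 := main w₁ hw₁ hw₁0
          have hil' : l' ≠ i := by
            rintro rfl
            rw [Finset.mem_insert] at hl'
            rcases hl' with h | h
            · exact hiS.1 h
            · exact hiS.2 h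
          have e1 : P i (w₁ + ∑ l ∈ insert l S, P l v) = w₁ := by
            rw [map_add, map_sum, hP.same i _ hw₁, Finset.sum_eq_zero, add_zero]
            intro a ha
            refine hP.ne i a (fun h => ?_) _ (hP.mem a v)
            rw [← h, Finset.mem_insert] at ha
            rcases ha with h | h
            · exact hiS.1 h
            · exact hiS.2 h
          have e2 : P l' (w₁ + ∑ l ∈ insert l S, P l v) = P l' v := by
            rw [map_add, map_sum, hP.ne l' i hil' _ hw₁, zero_add,
              Finset.sum_eq_single_of_mem l' hl', hP.same l' _ (hP.mem l' v)]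
            intro a _ ha
            exact hP.ne l' a (Ne.symm ha) _ (hP.mem a v)
          have h4 := kill _ h3 l' i hil' (by rw [e2]; exact hl'0) (by rw [e1]; exact hw₁0) 0
            (D i).zero_mem
          rw [e1, zero_add, add_sub_cancel_left] at h4
          exact h4
        · push Not at hs
          rw [Finset.sum_eq_zero hs]
          exact full_zero M
      · exact main w hw hw0
  apply eq_top_of_full
  intro v
  have h3 := all (Finset.univ.erase i) (by simp) v (P i v) (hP.mem i v)
  rw [Finset.add_sum_erase Finset.univ (fun l => P l v) (Finset.mem_univ i), hP.sum v] at h3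
  exact h3

end Cfsg.Agent.H875
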