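import Cfsg.Agent.H875.SpBase
set_option linter.all false

/-!
Pairs of complementary totally singular subspaces of the symplectic space (odd characteristic):
an overgroup of the stabiliser of such a pair either fixes the pair or is everything.
-/

set_option autoImplicit false
open Cfsg
open scoped Matrix
open Cfsg.Agent.ClassicalGeometry.SympBasic Cfsg.Agent.ClassicalGeometry.SympSiegel

namespace Cfsg.Agent.H875

variable {F : Type*} [Field F] {m : ℕ}

local notation "V" => (Fin m ⊕ Fin m → F)
local notation "G" => Matrix.symplecticGroup (Fin m) F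
local notation "f" => sympForm m F

/-- Two totally singular subspaces spanning the space. -/
structure LPair (W W' : Submodule F (Fin m ⊕ Fin m → F)) : Prop where
  iso : ∀ u ∈ W, ∀ v ∈ W, f u v = 0
  iso' : ∀ u ∈ W', ∀ v ∈ W', f u v = 0
  span : ∀ v : V, ∃ a ∈ W, ∃ b ∈ W', v = a + b

theorem LPair.symm {W W' : Submodule F V} (h : LPair W W') : LPair W' W := by
  refine ⟨h.iso', h.iso, fun v => ?_⟩
  obtain ⟨a, ha, b, hb, hv⟩ := h.span v
  exact ⟨b, hb, a, ha, by rw [hv, add_comm]⟩

theorem LPair.eq_zero {W W' : Submodule F V} (h : LPair W W') {a : V} (ha : a ∈ W)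
    (h0 : ∀ q ∈ W', f a q = 0) : a = 0 := by
  apply eq_zero_of_forall_sympForm_right
  intro v
  obtain ⟨x, hx, y, hy, rfl⟩ := h.span v
  rw [sympForm_add_right, h.iso a ha x hx, h0 y hy, add_zero]

theorem LPair.disjoint {W W' : Submodule F V} (h : LPair W W') {a : V} (ha : a ∈ W)
    (ha' : a ∈ W') : a = 0 :=
  h.eq_zero ha fun q hq => h.iso' a ha' q hq

theorem LPair.exists_one {W W' : Submodule F V} (h : LPair W W') {a : V} (ha : a ∈ W)
    (h0 : a ≠ 0) : ∃ q ∈ W', f a q = 1 := by
  by_contra hcon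
  push Not at hcon
  apply h0
  apply h.eq_zero ha
  intro q hq
  by_contra hne
  apply hcon ((f a q)⁻¹ • q) (W'.smul_mem _ hq)
  rw [sympForm_smul_right, inv_mul_cancel₀ hne]

theorem LPair.exists_dual {W W' : Submodule F V} (h : LPair W W') {a p : V} (ha : a ∈ W)
    (hp : p ∈ W) (hap : a ∉ Submodule.span F {p}) : ∃ q ∈ W', f p q = 0 ∧ f a q = 1 := by
  by_contra hcon
  push Not at hcon
  have h1 : ∀ q ∈ W', f p q = 0 → f a q = 0 := by
    intro q hq hpq
    by_contra hne
    apply hcon ((f a q)⁻¹ • q) (W'.smul_mem _ hq)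
    · rw [sympForm_smul_right, hpq, mul_zero]
    · rw [sympForm_smul_right, inv_mul_cancel₀ hne]
  by_cases hp0 : p = 0
  · subst hp0
    apply hap
    have : a = 0 := h.eq_zero ha fun q hq => h1 q hq (sympForm_zero_left q)
    rw [this]
    exact Submodule.zero_mem _
  · obtain ⟨q₀, hq₀, hpq₀⟩ := h.exists_one hp hp0
    apply hap
    rw [Submodule.mem_span_singleton]
    refine ⟨f a q₀, ?_⟩
    have h2 : a - f a q₀ • p = 0 := by
      apply h.eq_zero (W.sub_mem ha (W.smul_mem _ hp))
      intro q hq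
      have h3 := h1 (q - f p q • q₀) (W'.sub_mem hq (W'.smul_mem _ hq₀)) (by
        rw [sympForm_sub_right, sympForm_smul_right, hpq₀, mul_one, sub_self])
      rw [sympForm_sub_right, sympForm_smul_right] at h3
      rw [sympForm_sub_left, sympForm_smul_left]
      linear_combination h3
    exact (sub_eq_zero.1 h2).symm

/-- A non-zero vector of a large subspace orthogonal to few vectors. -/
theorem exists_orth {n : ℕ} {W : Submodule F V} (hn : n < Module.finrank F W)
    (x : Fin n → (Fin m ⊕ Fin m → F)) : ∃ q ∈ W, q ≠ 0 ∧ ∀ i, f (x i) q = 0 := by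
  let L : W →ₗ[F] (Fin n → F) := LinearMap.pi fun i => (sympBilin m F (x i)).comp W.subtype
  have h1 : LinearMap.ker L ≠ ⊥ := by
    apply LinearMap.ker_ne_bot_of_finrank_lt
    rw [Module.finrank_fintype_fun_eq_card, Fintype.card_fin]
    exact hn
  obtain ⟨q, hq, hq0⟩ := Submodule.exists_mem_ne_zero_of_ne_bot h1
  refine ⟨q, q.2, fun h => hq0 (Subtype.ext h), fun i => ?_⟩
  exact congrFun hq i

/-- A vector of a large subspace orthogonal to few vectors and outside a line. -/
theorem exists_orth' {n : ℕ} {W : Submodule F V} (hn : n + 1 < Module.finrank F W)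
    (x : Fin n → (Fin m ⊕ Fin m → F)) (a : V) :
    ∃ q ∈ W, q ∉ Submodule.span F {a} ∧ ∀ i, f (x i) q = 0 := by
  let L : W →ₗ[F] (Fin n → F) := LinearMap.pi fun i => (sympBilin m F (x i)).comp W.subtype
  by_contra hcon
  push Not at hcon
  have h1 : (LinearMap.ker L).map W.subtype ≤ Submodule.span F {a} := by
    rintro _ ⟨q, hq, rfl⟩
    by_contra hqa
    obtain ⟨i, hi⟩ := hcon q q.2 hqa
    exact hi (congrFun hq i)
  have h2 := Submodule.finrank_mono h1
  rw [Submodule.finrank_map_subtype_eq] at h2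
  have h3 := LinearMap.finrank_range_add_finrank_ker L
  have h4 : Module.finrank F (LinearMap.range L) ≤ n := by
    calc Module.finrank F (LinearMap.range L) ≤ Module.finrank F (Fin n → F) :=
          Submodule.finrank_le _
      _ = n := by rw [Module.finrank_fintype_fun_eq_card, Fintype.card_fin]
  have h5 := finrank_span_le_card (R := F) ({a} : Set V)
  rw [Set.toFinset_singleton, Finset.card_singleton] at h5
  omega

/-- The symmetric roles of the two vectors of a Siegel element. -/
theorem siegel_comm {u x : V} (h : f u x = 0) : siegel u x (0 : F) = siegel x u 0 := by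
  apply ext_smul
  intro v
  rw [siegel_smul h, siegel_smul (form_eq_zero_comm.1 h)]
  module

theorem siegel_comm_smul {u x : V} (h : f u x = 0) (c : F) :
    siegel u (c • x) 0 = siegel x (c • u) 0 := by
  have h1 : f u (c • x) = 0 := by rw [sympForm_smul_right, h, mul_zero]
  have h2 : f x (c • u) = 0 := by rw [sympForm_smul_right, form_eq_zero_comm.1 h, mul_zero]
  apply ext_smul
  intro v
  rw [siegel_smul h1, siegel_smul h2, sympForm_smul_left, sympForm_smul_left]
  module

/-- `x` is related to `u` when all the elements `siegel u (c x)` lie in `M`. -/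
def Rel (M : Subgroup G) (u x : V) : Prop := f u x = 0 ∧ ∀ c : F, siegel u (c • x) 0 ∈ M

theorem Rel.symm {M : Subgroup G} {u x : V} (h : Rel M u x) : Rel M x u :=
  ⟨form_eq_zero_comm.1 h.1, fun c => by rw [← siegel_comm_smul h.1]; exact h.2 c⟩

theorem Rel.smul {M : Subgroup G} {u x : V} (h : Rel M u x) {g : G} (hg : g ∈ M) :
    Rel M (g • u) (g • x) := by
  refine ⟨by rw [form_smul, h.1], fun c => ?_⟩
  have h1 : f u (c • x) = 0 := by rw [sympForm_smul_right, h.1, mul_zero]
  rw [← smul_smul', ← conj_siegel g h1]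
  exact M.mul_mem (M.mul_mem hg (h.2 c)) (M.inv_mem hg)

theorem Rel.smul_vec {M : Subgroup G} {u x : V} (h : Rel M u x) (a : F) : Rel M u (a • x) := by
  refine ⟨by rw [sympForm_smul_right, h.1, mul_zero], fun c => ?_⟩
  rw [smul_smul]
  exact h.2 _

theorem rel_zero (M : Subgroup G) (u : V) : Rel M u 0 := by
  refine ⟨sympForm_zero_right u, fun c => ?_⟩
  rw [smul_zero, siegel_zero_zero]
  exact M.one_mem

/-- Non-orthogonal related vectors give a full vector. -/
theorem full_of_rel {M : Subgroup G} {u x y : V} (h2 : (2 : F) ≠ 0) (hx : Rel M u x)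
    (hy : Rel M u y) (hxy : f x y ≠ 0) : Full M u := by
  intro c
  have key : ∀ a : F, transv u (-(2 * (a * f x y))) ∈ M := by
    intro a
    have h1 : f u (a • x) = 0 := by rw [sympForm_smul_right, hx.1, mul_zero]
    have h3 : f u ((1 : F) • y) = 0 := by rw [sympForm_smul_right, hy.1, mul_zero]
    have h4 : f u (a • x + (1 : F) • y) = 0 := by rw [sympForm_add_right, h1, h3, add_zero]
    have h5 : f u ((1 : F) • y + a • x) = 0 := by rw [add_comm]; exact h4
    have hm1 := M.mul_mem (hx.2 a) (hy.2 1)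
    have hm2 := M.mul_mem (hy.2 1) (hx.2 a)
    have hm := M.mul_mem hm1 (M.inv_mem hm2)
    rw [siegel_mul h1 h3, siegel_mul h3 h1, siegel_inv h5, siegel_mul h4 (form_neg_eq_zero h5),
      add_comm ((1 : F) • y) (a • x), add_neg_cancel, siegel_zero_eq_transv] at hm
    convert hm using 2
    simp only [sympForm_smul_left, sympForm_smul_right, sympForm_neg_right, sympForm_self,
      sympForm_swap y x]
    ring
  have h3 := key (-(c / (2 * f x y)))
  convert h3 using 2
  field_simp

theorem full_of_rel_self {M : Subgroup G} {u : V} (h2 : (2 : F) ≠ 0) (h : Rel M u u) :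
    Full M u := by
  intro c
  have h1 := h.2 (-(c / 2))
  rw [siegel_smul_self_eq] at h1
  convert h1 using 2
  field_simp
  ring

theorem Rel.add {M : Subgroup G} {u x y : V} (hx : Rel M u x) (hy : Rel M u y)
    (h : f x y = 0) : Rel M u (x + y) := by
  refine ⟨by rw [sympForm_add_right, hx.1, hy.1, add_zero], fun c => ?_⟩
  have h1 : f u (c • x) = 0 := by rw [sympForm_smul_right, hx.1, mul_zero]
  have h3 : f u (c • y) = 0 := by rw [sympForm_smul_right, hy.1, mul_zero]
  have h4 := M.mul_mem (hx.2 c) (hy.2 c)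
  rw [siegel_mul h1 h3, sympForm_smul_left, sympForm_smul_right, h, mul_zero, mul_zero, add_zero,
    add_zero, ← smul_add] at h4
  exact h4

/-- `M` contains the Siegel elements of the pair and an element exchanging its members. -/
structure PairGrp (M : Subgroup G) (W W' : Submodule F (Fin m ⊕ Fin m → F)) : Prop where
  pair : LPair W W'
  rel : ∀ p ∈ W, ∀ q ∈ W', f p q = 0 → Rel M p q
  swap : ∃ g ∈ M, ∀ x ∈ W, g • x ∈ W'
  swap' : ∃ g ∈ M, ∀ x ∈ W', g • x ∈ W

theorem PairGrp.symm {M : Subgroup G} {W W' : Submodule F V} (h : PairGrp M W W') :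
    PairGrp M W' W :=
  ⟨h.pair.symm, fun p hp q hq hpq => (h.rel q hq p hp (form_eq_zero_comm.1 hpq)).symm,
    h.swap', h.swap⟩

/-- The effect of a Siegel element of the pair on a full vector. -/
theorem PairGrp.move {M : Subgroup G} {W W' : Submodule F V} (h : PairGrp M W W')
    {p q : V} (hp : p ∈ W) (hq : q ∈ W') (hpq : f p q = 0) {u : V} (hu : Full M u) :
    Full M (u + f q u • p + f p u • q) := by
  have h1 := (h.rel p hp q hq hpq).2 1
  rw [one_smul] at h1
  have h3 := hu.smul h1
  rw [siegel_smul hpq, zero_smul, add_zero] at h3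
  exact h3

theorem not_mem_span_symm {a b : V} (ha : a ≠ 0) (h : b ∉ Submodule.span F {a}) :
    a ∉ Submodule.span F {b} := by
  intro h1
  obtain ⟨c, hc⟩ := Submodule.mem_span_singleton.1 h1
  have hc0 : c ≠ 0 := by
    rintro rfl
    rw [zero_smul] at hc
    exact ha hc.symm
  apply h
  rw [Submodule.mem_span_singleton]
  exact ⟨c⁻¹, by rw [← hc, smul_smul, inv_mul_cancel₀ hc0, one_smul]⟩

/-- A full vector of `W` makes `W` full. -/
theorem PairGrp.full_left {M : Subgroup G} {W W' : Submodule F V} (h : PairGrp M W W')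
    {a : V} (ha : a ∈ W) (ha0 : a ≠ 0) (hfa : Full M a) :
    ∀ w ∈ W, Full M w := by
  have step : ∀ a ∈ W, a ≠ 0 → Full M a → ∀ w ∈ W, w ∉ Submodule.span F {a} → Full M w := by
    intro a ha ha0 hfa w hw hwa
    have h1 : a ∉ Submodule.span F {w - a} := by
      apply not_mem_span_symm ha0
      intro h1
      apply hwa
      have := Submodule.add_mem _ h1 (Submodule.mem_span_singleton_self a)
      rwa [sub_add_cancel] at this
    obtain ⟨q, hq, h2, h3⟩ := h.pair.exists_dual ha (W.sub_mem hw ha) h1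
    have h4 := h.move (W.sub_mem hw ha) (W'.neg_mem hq) (by
      rw [sympForm_neg_right, h2, neg_zero]) hfa
    rw [h.pair.iso _ (W.sub_mem hw ha) _ ha, zero_smul, add_zero, sympForm_neg_left,
      sympForm_swap q a, h3, neg_neg, one_smul, add_sub_cancel] at h4
    exact h4
  intro w hw
  by_cases hwa : w ∈ Submodule.span F {a}
  · obtain ⟨c, rfl⟩ := Submodule.mem_span_singleton.1 hwa
    exact hfa.smul_vec c
  · exact step a ha ha0 hfa w hw hwa

/-- A full vector of `W` makes everything full. -/
theorem PairGrp.all_of_left {M : Subgroup G} {W W' : Submodule F V} (h : PairGrp M W W')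
    {a : V} (ha : a ∈ W)
    (ha0 : a ≠ 0) (hfa : Full M a) : ∀ v : V, Full M v := by
  have hW := h.full_left ha ha0 hfa
  obtain ⟨g, hg, hgW⟩ := h.swap
  have hW' := h.symm.full_left (hgW a ha) (smul_ne_zero' g ha0) (hfa.smul hg)
  intro v
  obtain ⟨a, ha, b, hb, rfl⟩ := h.pair.span v
  by_cases hb0 : b = 0
  · rw [hb0, add_zero]; exact hW a ha
  by_cases hab : f a b = 0
  · obtain ⟨c, hc, hbc⟩ := h.pair.symm.exists_one hb hb0
    have hcb : f c b = -1 := by rw [sympForm_swap, hbc]
    have h1 : Full M (c + b) := (hW c hc).add (hW' b hb) (by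
      rw [hcb]; exact neg_ne_zero.2 one_ne_zero)
    have h2 : Full M ((c + b) + (a - c)) := by
      apply h1.add (hW _ (W.sub_mem ha hc))
      rw [sympForm_add_left, h.pair.iso c hc _ (W.sub_mem ha hc), zero_add, sympForm_sub_right,
        form_eq_zero_comm.1 hab, hbc, zero_sub]
      exact neg_ne_zero.2 one_ne_zero
    convert h2 using 1
    abel
  · exact (hW a ha).add (hW' b hb) hab

/-- Moving the first component in the orthogonal case. -/
theorem PairGrp.move_left {M : Subgroup G} {W W' : Submodule F V} (h : PairGrp M W W')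
    (hdim : 3 ≤ Module.finrank F W) {a b : V} (ha : a ∈ W) (hb : b ∈ W') (ha0 : a ≠ 0)
    (hab : f a b = 0) (hu : Full M (a + b)) {a' : V} (ha' : a' ∈ W) (ha0' : a' ≠ 0)
    (hab' : f a' b = 0) : Full M (a' + b) := by
  have step : ∀ a ∈ W, a ≠ 0 → f a b = 0 → Full M (a + b) → ∀ a' ∈ W, f a' b = 0 →
      a' ∉ Submodule.span F {a} → Full M (a' + b) := by
    intro a ha ha0 hab hu w hw hwb hwa
    have h1 : a ∉ Submodule.span F {w - a} := by
      apply not_mem_span_symm ha0
      intro h1
      apply hwa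
      have := Submodule.add_mem _ h1 (Submodule.mem_span_singleton_self a)
      rwa [sub_add_cancel] at this
    obtain ⟨q, hq, h2, h3⟩ := h.pair.exists_dual ha (W.sub_mem hw ha) h1
    have h4 := h.move (W.sub_mem hw ha) (W'.neg_mem hq) (by
      rw [sympForm_neg_right, h2, neg_zero]) hu
    rw [sympForm_add_right, sympForm_add_right, h.pair.iso _ (W.sub_mem hw ha) _ ha,
      sympForm_sub_left, hwb, hab, sub_zero, zero_add, zero_smul, add_zero, sympForm_neg_left,
      sympForm_neg_left, h.pair.iso' q hq b hb, neg_zero, add_zero,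
      sympForm_swap q a, h3, neg_neg, one_smul] at h4
    convert h4 using 1
    abel
  by_cases hs : a' ∈ Submodule.span F {a}
  · -- through an intermediate vector
    obtain ⟨p, hp, hpa, hpb⟩ := exists_orth' (n := 1) (W := W) (by omega) ![b] a
    have hpb' : f p b = 0 := form_eq_zero_comm.1 (by simpa using hpb 0)
    have h1 := step a ha ha0 hab hu p hp hpb' hpa
    have hp0 : p ≠ 0 := by
      rintro rfl
      exact hpa (Submodule.zero_mem _)
    refine step p hp hp0 hpb' h1 a' ha' hab' ?_
    intro h2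
    obtain ⟨c, hc⟩ := Submodule.mem_span_singleton.1 hs
    have hc0 : c ≠ 0 := by
      rintro rfl
      rw [zero_smul] at hc
      exact ha0' hc.symm
    obtain ⟨d, hd⟩ := Submodule.mem_span_singleton.1 h2
    have hd0 : d ≠ 0 := by
      rintro rfl
      rw [zero_smul] at hd
      exact ha0' hd.symm
    apply hpa
    rw [Submodule.mem_span_singleton]
    exact ⟨d⁻¹ * c, by rw [← smul_smul, hc, ← hd, smul_smul, inv_mul_cancel₀ hd0, one_smul]⟩
  · exact step a ha ha0 hab hu a' ha' hab' hs

/-- All orthogonal sums are full once one is. -/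
theorem PairGrp.orth_all {M : Subgroup G} {W W' : Submodule F V} (h : PairGrp M W W')
    (hdim : 3 ≤ Module.finrank F W) (hdim' : 3 ≤ Module.finrank F W') {a b : V} (ha : a ∈ W)
    (hb : b ∈ W') (ha0 : a ≠ 0) (hb0 : b ≠ 0) (hab : f a b = 0) (hu : Full M (a + b)) :
    ∀ a' ∈ W, ∀ b' ∈ W', a' ≠ 0 → b' ≠ 0 → f a' b' = 0 → Full M (a' + b') := by
  intro a' ha' b' hb' ha0' hb0' hab'
  obtain ⟨p, hp, hp0, hpo⟩ := exists_orth (n := 2) (W := W) (by omega) ![b, b']
  have hpb : f p b = 0 := form_eq_zero_comm.1 (by simpa using hpo 0)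
  have hpb' : f p b' = 0 := form_eq_zero_comm.1 (by simpa using hpo 1)
  have h1 := h.move_left hdim ha hb ha0 hab hu hp hp0 hpb
  have h2 : Full M (b' + p) := by
    apply h.symm.move_left hdim' hb hp hb0 (form_eq_zero_comm.1 hpb) _ hb' hb0'
      (form_eq_zero_comm.1 hpb')
    rw [add_comm]
    exact h1
  rw [add_comm] at h2
  exact h.move_left hdim hp hb' hp0 hpb' h2 ha' ha0' hab'

/-- A non-zero full vector makes everything full. -/
theorem PairGrp.all_of_full {M : Subgroup G} {W W' : Submodule F V} (h : PairGrp M W W')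
    (h2 : (2 : F) ≠ 0)
    (hdim : 3 ≤ Module.finrank F W) (hdim' : 3 ≤ Module.finrank F W') {u : V} (hu0 : u ≠ 0)
    (hu : Full M u) : ∀ v : V, Full M v := by
  obtain ⟨a, ha, b, hb, rfl⟩ := h.pair.span u
  by_cases hb0 : b = 0
  · rw [hb0, add_zero] at hu hu0
    exact h.all_of_left ha hu0 hu
  by_cases ha0 : a = 0
  · rw [ha0, zero_add] at hu hu0
    exact h.symm.all_of_left hb hu0 hu
  -- an orthogonal sum which is full
  obtain ⟨p, hp, q, hq, hp0, hq0, hpq, hfull⟩ : ∃ p ∈ W, ∃ q ∈ W', p ≠ 0 ∧ q ≠ 0 ∧ f p q = 0 ∧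
      Full M (p + q) := by
    -- `p` not orthogonal to `b`, outside the line of `a`
    obtain ⟨p, hp, hbp, hpa⟩ : ∃ p ∈ W, f b p ≠ 0 ∧ p ∉ Submodule.span F {a} := by
      obtain ⟨p, hp, hbp⟩ := h.pair.symm.exists_one hb hb0
      by_cases hpa : p ∈ Submodule.span F {a}
      · obtain ⟨r, hr, hra, hro⟩ := exists_orth' (n := 1) (W := W) (by omega) ![b] a
        have hbr : f b r = 0 := by simpa using hro 0
        refine ⟨p + r, W.add_mem hp hr, ?_, ?_⟩
        · rw [sympForm_add_right, hbp, hbr, add_zero]; exact one_ne_zero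
        · intro h3
          apply hra
          have := Submodule.sub_mem _ h3 hpa
          rwa [add_sub_cancel_left] at this
      · exact ⟨p, hp, by rw [hbp]; exact one_ne_zero, hpa⟩
    obtain ⟨q, hq, hpq, haq⟩ := h.pair.exists_dual ha hp (not_mem_span_symm ha0 hpa)
    have hp0 : p ≠ 0 := by
      rintro rfl
      exact hpa (Submodule.zero_mem _)
    have hq0 : q ≠ 0 := by
      rintro rfl
      rw [sympForm_zero_right] at haq
      exact zero_ne_one haq
    have hm := h.move hp hq hpq hu
    have e1 : f q (a + b) = -1 := by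
      rw [sympForm_add_right, h.pair.iso' q hq b hb, sympForm_swap, haq, add_zero]
    have e2 : f p (a + b) = -f b p := by
      rw [sympForm_add_right, h.pair.iso p hp a ha, zero_add, sympForm_swap]
    rw [e1, e2] at hm
    have hd : Full M ((a + b + (-1 : F) • p + (-f b p) • q) - (a + b)) := by
      apply hm.sub hu
      simp only [sympForm_add_left, sympForm_smul_left, sympForm_add_right, sympForm_self,
        h.pair.iso p hp a ha, h.pair.iso' q hq b hb, sympForm_swap q a, haq, sympForm_swap p b,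
        sympForm_swap b a]
      intro hz
      apply hbp
      have : (2 : F) * f b p = 0 := by linear_combination hz
      rcases mul_eq_zero.1 this with h3 | h3
      · exact absurd h3 h2
      · exact h3
    refine ⟨(-1 : F) • p, W.smul_mem _ hp, (-f b p) • q, W'.smul_mem _ hq,
      smul_ne_zero (neg_ne_zero.2 one_ne_zero) hp0, smul_ne_zero (neg_ne_zero.2 hbp) hq0, ?_, ?_⟩
    · rw [sympForm_smul_left, sympForm_smul_right, hpq, mul_zero, mul_zero]
    · convert hd using 1
      abel
  have hall := h.orth_all hdim hdim' hp hq hp0 hq0 hpq hfull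
  -- now a full vector of `W`
  clear hfull hpq hp0 hq0 hu hu0
  -- `A` and `B` with `f A B = 1`, as sums of orthogonal ones
  obtain ⟨A₁, hA₁, hA₁b⟩ := h.pair.symm.exists_one hb hb0
  have hA₁b' : f A₁ b = -1 := by rw [sympForm_swap, hA₁b]
  have hA₁0 : A₁ ≠ 0 := by
    rintro rfl
    rw [sympForm_zero_right] at hA₁b
    exact zero_ne_one hA₁b
  -- `q₁ ∈ W'` orthogonal to `A₁`, not in the line of `b`
  obtain ⟨q₁, hq₁, hq₁b, hq₁o⟩ := exists_orth' (n := 1) (W := W') (by omega) ![A₁] b
  have hA₁q₁ : f A₁ q₁ = 0 := by simpa using hq₁o 0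
  have hq₁0 : q₁ ≠ 0 := by
    rintro rfl
    exact hq₁b (Submodule.zero_mem _)
  -- `a₁ ∈ W` orthogonal to `b` and `q₁`
  obtain ⟨a₁, ha₁, ha₁0, ha₁o⟩ := exists_orth (n := 2) (W := W) (by omega) ![b, q₁]
  have ha₁b : f a₁ b = 0 := form_eq_zero_comm.1 (by simpa using ha₁o 0)
  have ha₁q₁ : f a₁ q₁ = 0 := form_eq_zero_comm.1 (by simpa using ha₁o 1)
  have h3 := hall a₁ ha₁ b hb ha₁0 hb0 ha₁b
  have h4 := hall A₁ hA₁ q₁ hq₁ hA₁0 hq₁0 hA₁q₁
  have h5 : Full M ((a₁ + b) + (A₁ + q₁)) := by
    apply h3.add h4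
    rw [sympForm_add_left, sympForm_add_right, sympForm_add_right, h.pair.iso a₁ ha₁ A₁ hA₁,
      h.pair.iso' b hb q₁ hq₁, ha₁q₁, hA₁b]
    simp
  -- a vector of `W` orthogonal to `b + q₁`
  obtain ⟨c, hc, hc0, hco⟩ := exists_orth (n := 1) (W := W) (by omega) ![b + q₁]
  have hcb : f c (b + q₁) = 0 := form_eq_zero_comm.1 (by simpa using hco 0)
  have hbq0 : b + q₁ ≠ 0 := by
    intro h6
    have := congrArg (fun v => f A₁ v) h6
    simp only [sympForm_add_right, hA₁b', hA₁q₁, add_zero, sympForm_zero_right] at this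
    exact neg_ne_zero.2 one_ne_zero this
  have h6 := hall c hc (b + q₁) (W'.add_mem hb hq₁) hc0 hbq0 hcb
  have hval : f (a₁ + A₁) (b + q₁) = -1 := by
    rw [sympForm_add_left, sympForm_add_right, sympForm_add_right, ha₁b, ha₁q₁, hA₁b', hA₁q₁]
    ring
  have h7 : Full M (((a₁ + b) + (A₁ + q₁)) - (c + (b + q₁))) := by
    apply h5.sub h6
    have e : (a₁ + b) + (A₁ + q₁) = (a₁ + A₁) + (b + q₁) := by abel
    have e' : ∀ x y z : V, f (x + y) (z + y) = f x z + f x y - f z y := by
      intro x y z
      rw [sympForm_add_left, sympForm_add_right, sympForm_add_right, sympForm_self,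
        sympForm_swap y z]
      ring
    rw [e, e', h.pair.iso _ (W.add_mem ha₁ hA₁) c hc, hval, hcb]
    simp
  have e : ((a₁ + b) + (A₁ + q₁)) - (c + (b + q₁)) = a₁ + A₁ - c := by abel
  rw [e] at h7
  refine h.all_of_left (W.sub_mem (W.add_mem ha₁ hA₁) hc) ?_ h7
  intro h8
  have := congrArg (fun v => f v (b + q₁)) h8
  simp only [sympForm_sub_left, hval, hcb, sympForm_zero_left, sub_zero] at this
  exact neg_ne_zero.2 one_ne_zero this

end Cfsg.Agent.H875
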