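import Cfsg.Agent.H875.TwoQuad
import Cfsg.Agent.H882.Del.Stein
import Cfsg.Agent.Prune
set_option linter.all false
prune_inst 0x7f00000000000000000000000000000000000000000000000000000000000000000000000000000000000000000000000000000000000000000000000000000000000000000000000000000000000000003fffffffffffffffffffffffffffbeffbdffffffff
open scoped Cfsg.Agent.FastGrp

/-!
# The Steinberg module of `PSL_2(E)` in the defining characteristic is a deleted permutation module (helper875)

`steinberg_false` : `H` maximal in `omegaGL Q`, residual core `P`, `Soc P ≃* PSL_2(E)`, `char E = char F` odd,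
`|ι| = |E| ≥ 5`: impossible. (`Ω_9(3)` and `PSL_2(9)`, `Ω_11(11)` and `PSL_2(11)`.)
-/

set_option autoImplicit false
set_option linter.unusedSectionVars false
set_option linter.unusedSimpArgs false

namespace Cfsg.Agent.H875.Stein

open Cfsg Cfsg.Geo Matrix Cfsg.Agent.H915.LD
open Cfsg.Agent.H464.Sl2 (u t w bruhat t_one t_mul u_add u_zero w_one_mul_t)
open Cfsg.Agent.H882.Del

universe v' v w'

variable {ι : Type} [Fintype ι] [DecidableEq ι] {F : Type v'} [Field F]

section kill

variable [Finite F] {K : Type v} [Field K] [Fintype K]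

/-- A vector fixed by the Borel subgroup: impossible in dimension `|K|`. -/
theorem false_of_fixed (h2 : (2 : F) ≠ 0) {Q : QuadraticForm F (ι → F)}
    (hQ : Cfsg.Agent.LieClassical.OrthCore.Nondeg Q)
    {H P : Subgroup (GL ι F)} (hH : IsMaximalIn (omegaGL (Q : (ι → F) → F)) H) (hPc : IsResidualCore H P)
    (hodd : Odd (Fintype.card K)) (h5 : 5 ≤ Fintype.card K)
    (hn : Fintype.card ι = Fintype.card K) (e : Soc P ≃* ProjectiveSpecialLinearGroup (Fin 2) K)
    (ρP : SpecialLinearGroup (Fin 2) K →* P) (hsurj : Function.Surjective ρP)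
    (hρe : ∀ g, e (toSoc P (ρP g)) = QuotientGroup.mk' _ g) {v0 : ι → F} (hv0 : v0 ≠ 0)
    (hfix : ∀ x : K, ((ρP (u x) : P) : GL ι F).1 *ᵥ v0 = v0)
    (huniq : ∀ w : ι → F, (∀ x : K, ((ρP (u x) : P) : GL ι F).1 *ᵥ w = w) → ∃ c : F, w = c • v0)
    (htor : ∀ a : Kˣ, ((ρP (t a) : P) : GL ι F).1 *ᵥ v0 = v0) : False := by
  classical
  have hC : Core P := core_of_residual hPc
  -- the stabiliser of `v0`
  let K0 : Subgroup P :=
    { carrier := {g | ((g : GL ι F) : Matrix ι ι F) *ᵥ v0 = v0}
      one_mem' := by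
        change ((1 : GL ι F) : Matrix ι ι F) *ᵥ v0 = v0
        rw [Units.val_one, Matrix.one_mulVec]
      mul_mem' := by
        intro a b ha hb
        change ((a * b : GL ι F) : Matrix ι ι F) *ᵥ v0 = v0
        rw [mulVec_mul]
        change ((a : GL ι F) : Matrix ι ι F) *ᵥ v0 = v0 at ha
        change ((b : GL ι F) : Matrix ι ι F) *ᵥ v0 = v0 at hb
        rw [hb, ha]
      inv_mem' := by
        intro a ha
        change (((a : GL ι F)⁻¹ : GL ι F) : Matrix ι ι F) *ᵥ v0 = v0
        change ((a : GL ι F) : Matrix ι ι F) *ᵥ v0 = v0 at ha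
        conv_lhs => rw [← ha]
        exact inv_mulVec _ _ }
  let S : Subgroup (SpecialLinearGroup (Fin 2) K) := K0.comap ρP
  have hSu : ∀ x, u x ∈ S := fun x => hfix x
  have hSt : ∀ a, t a ∈ S := fun a => htor a
  have hSw : w 1 ∉ S := by
    intro hw1
    have htop : ∀ g, g ∈ S := by
      intro g
      have hwc : ∀ c : Kˣ, w c ∈ S := fun c => by rw [← w_one_mul_t]; exact S.mul_mem hw1 (hSt c)
      rcases bruhat g with ⟨x, a, rfl⟩ | ⟨x, c, y, rfl⟩
      · exact S.mul_mem (hSu x) (hSt a)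
      · exact S.mul_mem (S.mul_mem (hSu x) (hwc c)) (hSu y)
    rcases hC.absIrred.1 (Submodule.span F {v0}) (by
      rintro _ ⟨g, hg, rfl⟩
      obtain ⟨s, hs⟩ := hsurj ⟨g, hg⟩
      rintro _ ⟨x, hx, rfl⟩
      obtain ⟨c, rfl⟩ := Submodule.mem_span_singleton.1 hx
      change Matrix.toLin' (g : Matrix ι ι F) (c • v0) ∈ _
      rw [map_smul, Matrix.toLin'_apply]
      have h1 : ((ρP s : P) : GL ι F).1 *ᵥ v0 = v0 := htop s
      rw [hs] at h1
      have h1' : (g : Matrix ι ι F) *ᵥ v0 = v0 := h1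
      rw [h1']
      exact Submodule.smul_mem _ _ (Submodule.mem_span_singleton_self _)) with h | h
    · exact hv0 (Submodule.span_singleton_eq_bot.1 h)
    · have h1 := finrank_span_le_card (R := F) ({v0} : Set (ι → F))
      rw [h, finrank_top, Module.finrank_fintype_fun_eq_card] at h1
      simp at h1
      omega
  have hidx : K0.index = Fintype.card ι + 1 := by
    rw [hn, ← index_stab S hSu hSt hSw]
    exact (Subgroup.index_comap_of_surjective K0 hsurj).symm
  have hdc : ∀ g ∉ K0, ∀ g' ∉ K0, ∃ k ∈ K0, ∃ k' ∈ K0, g' = k * g * k' := by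
    intro g hg g' hg'
    obtain ⟨s, rfl⟩ := hsurj g
    obtain ⟨s', rfl⟩ := hsurj g'
    obtain ⟨k, hk, k', hk', e⟩ := dc_stab S hSu hSt s hg s' hg'
    exact ⟨ρP k, hk, ρP k', hk', by rw [e, map_mul, map_mul]⟩
  -- the Sylow subgroup
  have hr : (ringChar K).Prime := CharP.char_is_prime K _
  have hfr : Fact (ringChar K).Prime := ⟨hr⟩
  let uH : Multiplicative K →* SpecialLinearGroup (Fin 2) K :=
    { toFun := fun x => u x.toAdd
      map_one' := u_zero
      map_mul' := fun x y => u_add _ _ }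
  let U : Subgroup P := (ρP.comp uH).range
  have hUmem : ∀ x : K, ρP (u x) ∈ U := fun x => ⟨Multiplicative.ofAdd x, rfl⟩
  have hUp : IsPGroup (ringChar K) U := by
    rintro ⟨_, ⟨x, rfl⟩⟩
    refine ⟨1, ?_⟩
    apply Subtype.ext
    change (ρP.comp uH x) ^ (ringChar K) ^ 1 = 1
    rw [pow_one, ← map_pow]
    have : x ^ ringChar K = 1 := by
      apply Multiplicative.toAdd.injective
      change (ringChar K) • x.toAdd = 0
      rw [nsmul_eq_mul, ringChar.Nat.cast_ringChar, zero_mul]
    rw [this, map_one]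
  have hUinj : Function.Injective (ρP.comp uH) := by
    rw [injective_iff_map_eq_one]
    intro x hx
    have h1 : ρP (u x.toAdd) = 1 := hx
    have h3 := hρe (u x.toAdd)
    rw [h1, map_one, map_one] at h3
    have h6 : (QuotientGroup.mk (u x.toAdd) : ProjectiveSpecialLinearGroup (Fin 2) K) = 1 := h3.symm
    rw [QuotientGroup.eq_one_iff, ClassicalGeometry.PSL2Basic.mem_center_SL2_iff] at h6
    have h8 : ((u x.toAdd : SpecialLinearGroup (Fin 2) K) : Matrix (Fin 2) (Fin 2) K) 0 1 = 0 := by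
      rcases h6 with h | h
      · rw [h]; simp
      · rw [h]; simp
    simpa using h8
  have hUcard : Nat.card U = Fintype.card K := by
    rw [← Nat.card_congr (MonoidHom.ofInjective hUinj).toEquiv, Nat.card_eq_fintype_card, Fintype.card_multiplicative]
  have hUidx : ¬ ringChar K ∣ U.index := by
    intro hd
    have h1 : Nat.card P ∣ Nat.card (SpecialLinearGroup (Fin 2) K) := Subgroup.card_dvd_of_surjective ρP hsurj
    rw [← U.card_mul_index, hUcard, ClassicalGeometry.PSL2Basic.card_SL2] at h1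
    have h3 : U.index ∣ Fintype.card K ^ 2 - 1 := by
      have hpos : 0 < Fintype.card K := Fintype.card_pos
      exact Nat.dvd_of_mul_dvd_mul_left hpos h1
    have h5 : ringChar K ∣ Fintype.card K := by rw [← ringChar.spec, Nat.cast_card_eq_zero]
    have h6 := hd.trans h3
    have h8 : ringChar K ∣ Fintype.card K ^ 2 := dvd_pow h5 two_ne_zero
    have h9 : 1 ≤ Fintype.card K ^ 2 := Nat.one_le_pow _ _ Fintype.card_pos
    have h10 := (Nat.dvd_sub h8 h6)
    rw [Nat.sub_sub_self h9] at h10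
    exact hr.one_lt.ne' (Nat.dvd_one.1 h10)
  have hl := lines_of_sylow (H := H) (hUp.toSylow hUidx) (v0 := v0)
    (by
      rintro _ ⟨x, rfl⟩
      exact hfix _)
    (fun w' hw' => huniq w' fun x => hw' (ρP (u x)) (hUmem x))
    hPc.normal
  obtain ⟨⟨e'⟩, -, -⟩ := mat_main h2 hQ (by omega) hH hPc hidx hv0 (fun k hk => hk) hdc hl rfl
  have hcard := Nat.card_congr (e.symm.trans e').toEquiv
  have h1 := ClassicalGeometry.PSL2Basic.card_PSL2_odd (F := K) hodd
  have : Nontrivial (Fin (Fintype.card ι + 1)) := by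
    apply Fin.nontrivial_iff_two_le.2; omega
  have h3 := two_mul_nat_card_alternatingGroup (α := Fin (Fintype.card ι + 1))
  rw [← hcard, mul_comm, h1, Nat.card_perm, Nat.card_eq_fintype_card, Fintype.card_fin, hn] at h3
  obtain ⟨m, hm⟩ : ∃ m, Fintype.card K = m + 2 := ⟨Fintype.card K - 2, by omega⟩
  rw [hm, Nat.factorial_succ, Nat.factorial_succ, Nat.factorial_succ] at h3
  have h5' : 3 ≤ m.factorial := le_trans (by omega) (Nat.self_le_factorial m)
  have h6 : (m + 2) ^ 2 - 1 = (m + 3) * (m + 1) := by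
    have : (m + 2) ^ 2 = (m + 3) * (m + 1) + 1 := by ring
    omega
  rw [h6] at h3
  have h8 : (m + 2) * ((m + 3) * (m + 1)) * 1 = (m + 2) * ((m + 3) * (m + 1)) * m.factorial := by
    rw [mul_one]; refine h3.trans ?_; ring
  have h9 := Nat.eq_of_mul_eq_mul_left (by positivity) h8
  omega

end kill

/-! ### the vector -/

section vec

open Cfsg.Agent.H875.Fn
open Cfsg.Agent.H911.SLTwo (U hh ext')

variable [Fintype F] {E : Type v} [Field E] [Fintype E] {P : Subgroup (GL ι F)} (p : ℕ) [hp : Fact p.Prime]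
  [CharP E p] [CharP F p] {θ : SpecialLinearGroup (Fin 2) E →* P}

theorem u_eq (x : E) : u x = U x := by
  apply ext' <;> simp [u, U]

theorem t_eq (a : Eˣ) : t a = hh a := by
  apply ext' <;> simp [t, hh]

include hp in
/-- a model with `r = |E| - 1` over an extension gives a vector over `F` fixed by the Borel subgroup -/
theorem exists_v0 {k : Type w'} [Field k] {i : F →+* k} {j : E →+* k} {Φ : (ι → k) →ₗ[k] (E × E → k)}
    (hne : Nonempty ι) (hM : IsModel j (lin (P.subtype.comp θ) i) (Fintype.card E - 1) Φ) :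
    ∃ v0 : ι → F, v0 ≠ 0 ∧ (∀ x : E, ((θ (u x) : P) : GL ι F).1 *ᵥ v0 = v0) ∧
      (∀ w : ι → F, (∀ x : E, ((θ (u x) : P) : GL ι F).1 *ᵥ w = w) → ∃ c : F, w = c • v0) ∧
      ∀ a : Eˣ, ((θ (t a) : P) : GL ι F).1 *ᵥ v0 = v0 := by
  set ρ := P.subtype.comp θ with hρ
  have hlin : ∀ g (v : ι → F), lin ρ (RingHom.id F) g v = ((θ g : P) : GL ι F).1 *ᵥ v := by
    intro g v
    rw [lin_apply']
    congr 2
  have hi : ∀ g (v : ι → F), lin ρ i g (fun a => i (v a)) = fun a => i ((((θ g : P) : GL ι F).1 *ᵥ v) a) := by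
    intro g v
    have h1 := lin_map ρ (RingHom.id F) i g v
    rw [RingHom.comp_id] at h1
    rw [h1]
    funext a
    rw [hlin]
  obtain ⟨v0, hv0, hfix0⟩ := exists_common_fix (k := F) (V := ι → F) p (fun x : E => lin ρ (RingHom.id F) (U x))
    (fun x y => by rw [← map_mul, ← map_mul, H911.SLTwo.U_mul, H911.SLTwo.U_mul, add_comm]) (fun x => by
      have h1 : ∀ n : ℕ, (U x : SpecialLinearGroup (Fin 2) E) ^ n = U ((n : E) * x) := by
        intro n
        induction n with
        | zero => rw [pow_zero, Nat.cast_zero, zero_mul, H911.SLTwo.U_zero]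
        | succ n ih => rw [pow_succ, ih, H911.SLTwo.U_mul, Nat.cast_succ, add_mul, one_mul]
      rw [← map_pow, h1, CharP.cast_eq_zero, zero_mul, H911.SLTwo.U_zero, map_one]) Finset.univ
  have hfix : ∀ x : E, ((θ (U x) : P) : GL ι F).1 *ᵥ v0 = v0 := fun x => by
    rw [← hlin]
    exact hfix0 x (Finset.mem_univ _)
  obtain ⟨v, h0, -, hU, hw, huniq⟩ := hM.exists_hw
  have hline : ∀ w : ι → F, (∀ x : E, ((θ (U x) : P) : GL ι F).1 *ᵥ w = w) → ∃ b : k, (fun z => i (w z)) = b • v := by
    intro w hw'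
    refine huniq _ fun x => ?_
    rw [hi, hw']
  obtain ⟨a, ha⟩ := hline v0 hfix
  obtain ⟨y, hy⟩ := Function.ne_iff.1 hv0
  have hay : i (v0 y) = a * v y := congrFun ha y
  have hiy : i (v0 y) ≠ 0 := (map_ne_zero i).2 hy
  have ha0 : a ≠ 0 := by
    rintro rfl
    rw [zero_mul] at hay
    exact hiy hay
  refine ⟨v0, hv0, fun x => by rw [u_eq]; exact hfix x, ?_, ?_⟩
  · intro w hw'
    obtain ⟨b, hb⟩ := hline w fun x => by rw [← u_eq]; exact hw' x
    have hby : i (w y) = b * v y := congrFun hb y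
    refine ⟨w y / v0 y, ?_⟩
    funext z
    apply i.injective
    have hbz : i (w z) = b * v z := congrFun hb z
    have haz : i (v0 z) = a * v z := congrFun ha z
    rw [Pi.smul_apply, smul_eq_mul, map_mul, map_div₀, hbz, haz, hby, hay]
    have hvy : v y ≠ 0 := by
      intro h
      rw [h, mul_zero] at hay
      exact hiy hay
    field_simp
  · intro s
    rw [t_eq]
    have h1 : lin ρ i (hh s) (fun a => i (v0 a)) = fun a => i (v0 a) := by
      rw [ha, map_smul, hw, map_pow_card_sub_one j s.ne_zero, one_smul]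
    rw [hi] at h1
    funext z
    exact i.injective (congrFun h1 z)

include hp in
/-- **The Steinberg module is killed.** -/
theorem steinberg_false {H : Subgroup (GL ι F)} (h2 : (2 : F) ≠ 0) {Q : (ι → F) → F}
    (hQ : IsNondegenerateQuadraticForm Q) (hH : IsMaximalIn (omegaGL Q) H) (hc : IsResidualCore H P)
    (h5 : 5 ≤ Fintype.card E) (hn : Fintype.card ι = Fintype.card E)
    (e : Soc P ≃* ProjectiveSpecialLinearGroup (Fin 2) E) : False := by
  have hC : Core P := core_of_residual hc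
  have hperf := Psl2.perf hC e
  obtain ⟨θ, hsurj, hθ⟩ := DefCov.exists_cover (m := 1) hC p hperf e
  obtain ⟨j⟩ := Psl2.exists_emb F E p
  have hk : CharP (AlgebraicClosure F) p := charP_of_injective_ringHom (algebraMap F (AlgebraicClosure F)).injective p
  obtain ⟨r, Φ, hM⟩ := exists_isModel_lin (algebraMap F (AlgebraicClosure F)) j (P.subtype.comp θ) p
    (cov_abs θ hC hsurj) hC.two_le
  -- the exponent is `|E| - 1`
  have h3 := hM.finrank p
  rw [Module.finrank_fintype_fun_eq_card, hn] at h3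
  have h4 : (SS p r).card ≤ r + 1 := by
    have := Finset.card_filter_le (Finset.range (r + 1)) fun m => ¬ p ∣ r.choose m
    rwa [Finset.card_range] at this
  have h6 := hM.le
  have hr : r = Fintype.card E - 1 := by omega
  rw [hr] at hM
  obtain ⟨v0, hv0, hfix, huniq, htor⟩ := exists_v0 p hC.nonempty hM
  have hodd : Odd (Fintype.card E) := by
    obtain ⟨f, -, hf⟩ := FiniteField.card E p
    rw [hf]
    exact (Psl2.odd_of_two (F := F) p h2).pow
  exact false_of_fixed (Q := H925.qf hQ) h2 (H925.nondeg_qf hQ) (by rw [H925.coe_qf]; exact hH) hc hodd h5 hn e θ hsurj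
    hθ hv0 hfix huniq htor

/-! ### the rows in dimensions 9 and 11 -/

variable {H : Subgroup (GL ι F)} {Q : (ι → F) → F}

include hp in
theorem omega_eleven (h2 : (2 : F) ≠ 0) (hQ : IsNondegenerateQuadraticForm Q) (hn : Fintype.card ι = 11)
    (hH : IsMaximalIn (omegaGL Q) H) (hc : IsResidualCore H P) (e : Soc P ≃* ProjectiveSpecialLinearGroup (Fin 2) E) :
    Nonempty (Soc P ≃* ProjectiveSpecialLinearGroup (Fin 2) F) ∧ 11 ≤ p ∧ Fintype.card F ≠ 11 := by
  obtain ⟨h1, h3, h4⟩ := PslRows.omega_eleven p h2 hQ hn hH hc e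
  refine ⟨h3, h4, fun h => ?_⟩
  exact steinberg_false p h2 hQ hH hc (by omega) (by omega) e

include hp in
theorem omega_nine (h2 : (2 : F) ≠ 0) (hQ : IsNondegenerateQuadraticForm Q) (hn : Fintype.card ι = 9)
    (hH : IsMaximalIn (omegaGL Q) H) (hc : IsResidualCore H P) (e : Soc P ≃* ProjectiveSpecialLinearGroup (Fin 2) E) :
    (Nonempty (Soc P ≃* ProjectiveSpecialLinearGroup (Fin 2) F) ∧ 11 ≤ p) ∨
      (Fintype.card E = Fintype.card F ^ 2 ∧ Fintype.card F ≠ 3) := by
  rcases PslRows.omega_nine p h2 hQ hn hH hc e with ⟨-, h3, h4⟩ | h1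
  · exact Or.inl ⟨h3, h4⟩
  · refine Or.inr ⟨h1, fun h => ?_⟩
    rw [h] at h1
    exact steinberg_false p h2 hQ hH hc (by omega) (by omega) e

end vec

end Cfsg.Agent.H875.Stein

private theorem dce_efad0791c424 : _root_.True := by
  try have : _root_.True := by simp only [_root_.Cfsg.Agent.H464.Sl2.t.eq_1]
  try have : _root_.True := by simp only [_root_.Cfsg.Agent.H911.SLTwo.hh.eq_1]
  try have : _root_.True := by simp only [_root_.Cfsg.Agent.H911.SLTwo.U.eq_1]
  try have : _root_.True := by simp only [_root_.Cfsg.Agent.H464.Sl2.u.eq_1]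
  exact _root_.True.intro
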